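import Mathlib.AlgebraicGeometry.AffineSpace
import Mathlib.AlgebraicGeometry.Morphisms.Immersion
import Mathlib.AlgebraicGeometry.Morphisms.FiniteType

/-!
# Immersions into affine spaces from immersions into products of affine schemes
-/

universe u

open CategoryTheory CategoryTheory.Limits AlgebraicGeometry Opposite TopologicalSpace

set_option backward.isDefEq.respectTransparency false
set_option backward.isDefEq.respectTransparency.types false
set_option linter.style.haveILetI false

namespace Groth.Agent.AffImm14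

set_option maxHeartbeats 1600000

theorem appTop_comp_apply {X Y Z : Scheme.{u}} (f : X ⟶ Y) (g : Y ⟶ Z) (x : Γ(Z, ⊤)) :
    f.appTop (g.appTop x) = (f ≫ g).appTop x :=
  rfl

/-- Maps of schemes which factor through a closed immersion are surjective on sections over affine opens
in the open. -/
theorem app_surjective_of_factor {W Ω P : Scheme.{u}} (k : W ⟶ Ω) [IsClosedImmersion k] (o : Ω ⟶ P)
    [IsOpenImmersion o] (D : P.Opens) (hD : IsAffineOpen D) (hle : D ≤ o.opensRange) (j : W ⟶ P)
    (hj : k ≫ o = j) : IsAffineOpen (j ⁻¹ᵁ D) ∧ Function.Surjective (j.app D) := by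
  subst hj
  have hD' : IsAffineOpen (o ⁻¹ᵁ D) := by
    rw [← o.isAffineOpen_iff_of_isOpenImmersion, Scheme.Hom.image_preimage_eq_opensRange_inf,
      inf_eq_right.2 hle]
    exact hD
  refine ⟨hD'.preimage k, ?_⟩
  rw [Scheme.Hom.comp_app]
  have := Scheme.Hom.isIso_app o D hle
  intro z
  obtain ⟨y, hy⟩ := k.app_surjective _ hD' z
  obtain ⟨x, hx⟩ := (ConcreteCategory.bijective_of_isIso (o.app D)).2 y
  exact ⟨x, (congrArg (k.app _) hx).trans hy⟩

/-- The global functions of a product of affine schemes are generated by those of the factors. -/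
theorem closure_range_eq_top {V U : Scheme.{u}} [IsAffine V] [IsAffine U] :
    Subring.closure (Set.range (pullback.fst (specULiftZIsTerminal.from V) (specULiftZIsTerminal.from U)).appTop ∪
      Set.range (pullback.snd (specULiftZIsTerminal.from V) (specULiftZIsTerminal.from U)).appTop) = ⊤ := by
  set p₁ := pullback.fst (specULiftZIsTerminal.from V) (specULiftZIsTerminal.from U) with hp₁
  set p₂ := pullback.snd (specULiftZIsTerminal.from V) (specULiftZIsTerminal.from U) with hp₂
  set T := Subring.closure (Set.range p₁.appTop ∪ Set.range p₂.appTop)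
  let incl : CommRingCat.of T ⟶ Γ(pullback (specULiftZIsTerminal.from V) (specULiftZIsTerminal.from U), ⊤) :=
    CommRingCat.ofHom T.subtype
  let c₁ : Γ(V, ⊤) ⟶ CommRingCat.of T := CommRingCat.ofHom
    (p₁.appTop.hom.codRestrict T fun x => Subring.subset_closure (Or.inl ⟨x, rfl⟩))
  let c₂ : Γ(U, ⊤) ⟶ CommRingCat.of T := CommRingCat.ofHom
    (p₂.appTop.hom.codRestrict T fun x => Subring.subset_closure (Or.inr ⟨x, rfl⟩))
  have e₁ : c₁ ≫ incl = p₁.appTop := rfl
  have e₂ : c₂ ≫ incl = p₂.appTop := rfl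
  let π := (pullback (specULiftZIsTerminal.from V) (specULiftZIsTerminal.from U)).toSpecΓ ≫ Spec.map incl
  let l : Spec (CommRingCat.of T) ⟶ pullback (specULiftZIsTerminal.from V) (specULiftZIsTerminal.from U) :=
    pullback.lift (Spec.map c₁ ≫ V.isoSpec.inv) (Spec.map c₂ ≫ U.isoSpec.inv)
      (specULiftZIsTerminal.hom_ext _ _)
  have hπl : π ≫ l = 𝟙 _ := by
    apply pullback.hom_ext
    · rw [Category.id_comp, Category.assoc, pullback.lift_fst, Category.assoc, ← Spec.map_comp_assoc, e₁,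
        ← Category.assoc, Iso.comp_inv_eq]
      exact (Scheme.toSpecΓ_naturality p₁).symm
    · rw [Category.id_comp, Category.assoc, pullback.lift_snd, Category.assoc, ← Spec.map_comp_assoc, e₂,
        ← Category.assoc, Iso.comp_inv_eq]
      exact (Scheme.toSpecΓ_naturality p₂).symm
  rw [eq_top_iff]
  intro x _
  have h := congrArg (fun q => q.appTop x) hπl
  have hπ : π.appTop = (Scheme.ΓSpecIso (CommRingCat.of T)).hom ≫ incl := by
    simp only [π, Scheme.Hom.comp_appTop, Scheme.toSpecΓ_appTop]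
    exact Scheme.ΓSpecIso_naturality incl
  rw [Scheme.Hom.comp_appTop, hπ] at h
  simp only [CommRingCat.hom_comp, RingHom.coe_comp, Function.comp_apply] at h
  have h' : (_ : Γ(pullback (specULiftZIsTerminal.from V) (specULiftZIsTerminal.from U), ⊤)) = x := h
  exact h' ▸ ((Scheme.ΓSpecIso (CommRingCat.of T)).hom (l.appTop x)).2

/-- Surjectivity on sections over a basic open from generators. -/
theorem app_surjective_basicOpen {W Y : Scheme.{u}} [IsAffine Y] (f : W ⟶ Y) (r : Γ(Y, ⊤))
    (D : W.Opens) (e : D = f ⁻¹ᵁ Y.basicOpen r) (s : Set Γ(W, D))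
    (hs : Subring.closure s = ⊤)
    (hrep : ∀ c ∈ s, ∃ (m : ℕ) (y : Γ(Y, ⊤)), c * W.presheaf.map (homOfLE le_top).op (f.appTop r) ^ m =
      W.presheaf.map (homOfLE le_top).op (f.appTop y)) :
    Function.Surjective (f.app (Y.basicOpen r)) := by
  subst e
  have key : ∀ y, f.app (Y.basicOpen r) (Y.presheaf.map (homOfLE le_top).op y) =
      W.presheaf.map (homOfLE le_top).op (f.appTop y) := fun y =>
    congrArg (fun q => q y) (f.naturality (homOfLE (le_top : Y.basicOpen r ≤ ⊤)).op)
  have hu : IsUnit (Y.presheaf.map (homOfLE (le_top : Y.basicOpen r ≤ ⊤)).op r) :=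
    RingedSpace.isUnit_res_basicOpen Y.toRingedSpace r
  intro z
  suffices h : (f.app (Y.basicOpen r)).hom.range = ⊤ from RingHom.range_eq_top.1 h z
  rw [eq_top_iff, ← hs, Subring.closure_le]
  intro c hc
  obtain ⟨m, y, hy⟩ := hrep c hc
  refine ⟨Y.presheaf.map (homOfLE le_top).op y * ((hu.unit⁻¹).1) ^ m, ?_⟩
  rw [map_mul, map_pow, key, ← hy, mul_assoc, ← mul_pow, ← key, ← map_mul, IsUnit.mul_val_inv,
    map_one, one_pow, mul_one]

theorem isClosedImmersion_restrict {W Y : Scheme.{u}} (f : W ⟶ Y) (D : Y.Opens) (hD : IsAffineOpen D)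
    (h₁ : IsAffineOpen (f ⁻¹ᵁ D)) (h₂ : Function.Surjective (f.app D)) :
    IsClosedImmersion (f ∣_ D) := by
  have : IsAffine D.toScheme := hD
  have : IsAffine (f ⁻¹ᵁ D).toScheme := h₁
  apply IsClosedImmersion.of_surjective_of_isAffine
  rw [morphismRestrict_appTop]
  have key : ∀ E, E = D → Function.Surjective (f.app E) := by rintro _ rfl; exact h₂
  intro z
  obtain ⟨y, hy⟩ := (ConcreteCategory.bijective_of_isIso
    (W.presheaf.map (eqToHom (image_morphismRestrict_preimage f D ⊤)).op)).2 z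
  obtain ⟨x, hx⟩ := key _ D.ι_image_top y
  exact ⟨x, (congrArg (W.presheaf.map (eqToHom (image_morphismRestrict_preimage f D ⊤)).op) hx).trans hy⟩

/-- Sections over the preimage of a basic open are fractions. -/
theorem rep_of_app_surjective {W P : Scheme.{u}} [IsAffine P] (j : W ⟶ P) (h : Γ(P, ⊤))
    (D : W.Opens) (e : D = j ⁻¹ᵁ P.basicOpen h) (hsurj : Function.Surjective (j.app (P.basicOpen h)))
    (c : Γ(W, D)) : ∃ (m : ℕ) (x : Γ(P, ⊤)), c * W.presheaf.map (homOfLE le_top).op (j.appTop h) ^ m =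
      W.presheaf.map (homOfLE le_top).op (j.appTop x) := by
  subst e
  have key : ∀ q, j.app (P.basicOpen h) (P.presheaf.map (homOfLE le_top).op q) =
      W.presheaf.map (homOfLE le_top).op (j.appTop q) := fun q =>
    congrArg (fun k => k q) (j.naturality (homOfLE (le_top : P.basicOpen h ≤ ⊤)).op)
  obtain ⟨z, rfl⟩ := hsurj c
  haveI := (isAffineOpen_top P).isLocalization_basicOpen h
  obtain ⟨m, x, hx⟩ := IsLocalization.Away.surj h z
  refine ⟨m, x, ?_⟩
  rw [← key, ← key, ← map_pow, ← map_mul]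
  exact congrArg (j.app (P.basicOpen h)) hx

/-- An immersion into the product with an affine scheme gives an immersion into an affine space. -/
theorem exists_generators_immersion {W V U : Scheme.{u}} [IsAffine V] [IsAffine U] [CompactSpace W]
    (a : W ⟶ V) (b : W ⟶ U) [LocallyOfFiniteType a]
    [IsImmersion (pullback.lift a b (specULiftZIsTerminal.hom_ext _ _) :
      W ⟶ pullback (specULiftZIsTerminal.from V) (specULiftZIsTerminal.from U))] :
    ∃ (n : ℕ) (v : Fin n → Γ(U, ⊤)),
      IsImmersion (AffineSpace.homOfVector (n := ULift.{u} (Fin n)) a fun i => b.appTop (v i.down)) := by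
  classical
  set j : W ⟶ pullback (specULiftZIsTerminal.from V) (specULiftZIsTerminal.from U) :=
    pullback.lift a b (specULiftZIsTerminal.hom_ext _ _)
  let M (F : Finset Γ(U, ⊤)) : Subring Γ(W, ⊤) :=
    Subring.closure (Set.range a.appTop ∪ b.appTop '' (F : Set _))
  have hM : ∀ {F F'}, F ⊆ F' → M F ≤ M F' := fun h =>
    Subring.closure_mono (Set.union_subset_union_right _ (Set.image_mono (Finset.coe_subset.2 h)))
  have hgen : ∀ x, ∃ F, j.appTop x ∈ M F := fun x => by
    have hx : x ∈ Subring.closure _ := closure_range_eq_top (V := V) (U := U) ▸ Subring.mem_top x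
    induction hx using Subring.closure_induction with
    | mem x hx =>
      rcases hx with ⟨y, rfl⟩ | ⟨y, rfl⟩
      · refine ⟨∅, Subring.subset_closure (Or.inl ⟨y, ?_⟩)⟩
        rw [appTop_comp_apply, pullback.lift_fst]
      · refine ⟨{y}, Subring.subset_closure (Or.inr ⟨y, by simp, ?_⟩)⟩
        rw [appTop_comp_apply, pullback.lift_snd]
    | zero => exact ⟨∅, by rw [map_zero]; exact zero_mem _⟩
    | one => exact ⟨∅, by rw [map_one]; exact one_mem _⟩
    | neg x _ h => obtain ⟨F, h⟩ := h; exact ⟨F, by rw [map_neg]; exact neg_mem h⟩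
    | add x y _ _ h h' =>
      obtain ⟨F, h⟩ := h; obtain ⟨F', h'⟩ := h'
      exact ⟨F ∪ F', by rw [map_add]; exact add_mem (hM Finset.subset_union_left h) (hM Finset.subset_union_right h')⟩
    | mul x y _ _ h h' =>
      obtain ⟨F, h⟩ := h; obtain ⟨F', h'⟩ := h'
      exact ⟨F ∪ F', by rw [map_mul]; exact mul_mem (hM Finset.subset_union_left h) (hM Finset.subset_union_right h')⟩
  -- local data
  have loc : ∀ w : W, ∃ (g : Γ(W, ⊤)) (F : Finset Γ(U, ⊤)) (s : Finset Γ(W, W.basicOpen g)),
      w ∈ W.basicOpen g ∧ IsAffineOpen (W.basicOpen g) ∧ g ∈ M F ∧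
      Subring.closure (Set.range (a.appLE ⊤ (W.basicOpen g) le_top) ∪ (s : Set _)) = ⊤ ∧
      ∀ c ∈ s, ∃ (m : ℕ) (y : Γ(W, ⊤)), y ∈ M F ∧ c * W.presheaf.map (homOfLE le_top).op g ^ m =
        W.presheaf.map (homOfLE le_top).op y := by
    intro w
    obtain ⟨_, ⟨_, ⟨h, rfl⟩, rfl⟩, hwh, hsub⟩ := (isBasis_basicOpen (pullback (specULiftZIsTerminal.from V)
      (specULiftZIsTerminal.from U))).exists_subset_of_mem_open
      (show j w ∈ (j.coborderRange : Set _) from subset_coborder (Set.mem_range_self w)) j.coborderRange.isOpen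
    have hle : (pullback (specULiftZIsTerminal.from V) (specULiftZIsTerminal.from U)).basicOpen h ≤
        j.coborderRange.ι.opensRange := by
      rw [Scheme.Opens.opensRange_ι]; exact hsub
    have hD := (isAffineOpen_top (pullback (specULiftZIsTerminal.from V) (specULiftZIsTerminal.from U))).basicOpen h
    obtain ⟨hA, hsurj⟩ := app_surjective_of_factor j.liftCoborder j.coborderRange.ι _ hD hle j
      j.liftCoborder_ι
    have e : j ⁻¹ᵁ (pullback (specULiftZIsTerminal.from V) (specULiftZIsTerminal.from U)).basicOpen h =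
        W.basicOpen (j.appTop h) := Scheme.preimage_basicOpen j h
    have hA' : IsAffineOpen (W.basicOpen (j.appTop h)) := e ▸ hA
    letI := (a.appLE ⊤ (W.basicOpen (j.appTop h)) le_top).hom.toAlgebra
    obtain ⟨s, hs⟩ : (⊤ : Subalgebra Γ(V, ⊤) Γ(W, W.basicOpen (j.appTop h))).FG :=
      Algebra.FiniteType.out (self := a.finiteType_appLE (isAffineOpen_top V) hA' le_top)
    have hrep := rep_of_app_surjective j h _ e.symm hsurj
    choose m x hx using hrep
    choose F hF using hgen
    refine ⟨j.appTop h, F h ∪ s.biUnion fun c => F (x c), s, ?_, hA', hM Finset.subset_union_left (hF h), ?_,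
      fun c hc => ⟨m c, j.appTop (x c), hM ((Finset.subset_biUnion_of_mem (fun c => F (x c)) hc).trans
        Finset.subset_union_right) (hF _), hx c⟩⟩
    · rw [← e]; exact hwh
    · rw [eq_top_iff]
      intro z _
      have : z ∈ Algebra.adjoin Γ(V, ⊤) (s : Set _) := hs ▸ Algebra.mem_top
      rwa [← Subalgebra.mem_toSubring, Algebra.adjoin_eq_ring_closure] at this
  choose g F s hwg hgA hgF hs hrep using loc
  obtain ⟨t, ht⟩ := isCompact_univ.elim_finite_subcover (fun w => (W.basicOpen (g w) : Set W))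
    (fun w => (W.basicOpen (g w)).isOpen) (fun w _ => Set.mem_iUnion.2 ⟨w, hwg w⟩)
  let F₀ := t.biUnion F
  refine ⟨F₀.card, fun i => (F₀.equivFin.symm i).1, ?_⟩
  obtain ⟨ψ, hψv, hψo⟩ : ∃ ψ : W ⟶ 𝔸(ULift.{u} (Fin F₀.card); V),
      (∀ i, ψ.appTop (AffineSpace.coord V i) = b.appTop ((F₀.equivFin.symm i.down).1)) ∧
      ψ ≫ 𝔸(ULift.{u} (Fin F₀.card); V) ↘ V = a :=
    ⟨AffineSpace.homOfVector a fun i => b.appTop ((F₀.equivFin.symm i.down).1),
      fun i => AffineSpace.homOfVector_appTop_coord _ _ i, AffineSpace.homOfVector_over _ _⟩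
  rw [show AffineSpace.homOfVector (n := ULift.{u} (Fin F₀.card)) a
      (fun i => b.appTop ((F₀.equivFin.symm i.down).1)) = ψ from AffineSpace.hom_ext
        (by rw [AffineSpace.homOfVector_over, hψo])
        (fun i => by rw [AffineSpace.homOfVector_appTop_coord, hψv])]
  have hψ : M F₀ ≤ ψ.appTop.hom.range := by
    rw [Subring.closure_le]
    rintro _ (⟨y, rfl⟩ | ⟨y, hy, rfl⟩)
    · refine ⟨(𝔸(ULift.{u} (Fin F₀.card); V) ↘ V).appTop y, ?_⟩
      rw [appTop_comp_apply, hψo]
    · refine ⟨AffineSpace.coord V ⟨F₀.equivFin ⟨y, hy⟩⟩, ?_⟩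
      rw [hψv]
      simp
  have hr : ∀ w ∈ t, ∃ r, ψ.appTop r = g w := fun w hw =>
    hψ (hM (Finset.subset_biUnion_of_mem F hw) (hgF w))
  choose r hr using hr
  let Q := 𝔸(ULift.{u} (Fin F₀.card); V)
  let D : t → Q.Opens := fun w => Q.basicOpen (r w.1 w.2)
  have hD : ∀ w : t, ψ ⁻¹ᵁ D w = W.basicOpen (g w.1) := fun w =>
    (Scheme.preimage_basicOpen ψ _).trans (congrArg W.basicOpen (hr w.1 w.2))
  have hsurj : ∀ w : t, Function.Surjective (ψ.app (D w)) := by
    rintro ⟨w, hw⟩
    let R : Set Γ(W, W.basicOpen (g w)) := Set.range (a.appLE ⊤ (W.basicOpen (g w)) le_top)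
    let s' : Set Γ(W, W.basicOpen (g w)) := SetLike.coe (s w)
    let S' : Set Γ(W, W.basicOpen (g w)) := R ∪ s'
    have hS' : Subring.closure S' = ⊤ := hs w
    refine app_surjective_basicOpen ψ (r w hw) (W.basicOpen (g w)) (hD ⟨w, hw⟩).symm S' hS' ?_
    intro c hc
    rcases hc with hc | hc
    · obtain ⟨y, hy⟩ := hc
      refine ⟨0, (Q ↘ V).appTop y, ?_⟩
      rw [pow_zero, mul_one, appTop_comp_apply, hψo, ← hy]
      rfl
    · obtain ⟨m, y, hy, he⟩ := hrep w c hc
      obtain ⟨y', hy'⟩ := hψ (hM (Finset.subset_biUnion_of_mem F hw) hy)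
      refine ⟨m, y', ?_⟩
      rw [hr w hw, show ψ.appTop y' = y from hy']
      exact he
  let O : Q.Opens := ⨆ w, D w
  have htop : ψ ⁻¹ᵁ O = ⊤ := top_le_iff.1 fun w _ => by
    obtain ⟨w', hw', hw⟩ := Set.mem_iUnion₂.1 (ht (Set.mem_univ w))
    exact TopologicalSpace.Opens.mem_iSup.2 ⟨⟨w', hw'⟩, show w ∈ ψ ⁻¹ᵁ D ⟨w', hw'⟩ by rw [hD]; exact hw⟩
  have hcl : IsClosedImmersion (ψ ∣_ O) := by
    refine (IsZariskiLocalAtTarget.iff_of_iSup_eq_top (P := @IsClosedImmersion)
      (fun w : t => O.ι ⁻¹ᵁ D w) ?_).2 fun w => ?_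
    · rw [← Scheme.Hom.preimage_iSup]
      exact O.ι_preimage_self
    · refine (MorphismProperty.arrow_mk_iso_iff @IsClosedImmersion (morphismRestrictRestrict ψ O _)).2 ?_
      rw [Scheme.Hom.image_preimage_eq_opensRange_inf, Scheme.Opens.opensRange_ι,
        inf_eq_right.2 (le_iSup D w)]
      have hA : IsAffineOpen (ψ ⁻¹ᵁ D w) := by rw [hD w]; exact hgA w.1
      exact isClosedImmersion_restrict ψ (D w) ((isAffineOpen_top Q).basicOpen _) hA (hsurj w)
  have : IsImmersion ((ψ ∣_ O) ≫ O.ι) := inferInstance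
  rwa [morphismRestrict_ι, htop, ← Scheme.topIso_hom,
    MorphismProperty.cancel_left_of_respectsIso (P := @IsImmersion)] at this

end Groth.Agent.AffImm14
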