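import Groth.Agent.Lib.AffImm14.Basic
import Groth.Agent.Lib.AlgSpace.ImmDescent
import Groth.Agent.Lib.AlgSpace.Diag
import Groth.Agent.Lib.AlgSpace.QCQS
import Groth.Agent.Lib.AlgSpDecent.Basic
import Groth.Agent.Lib.AlgSpDecent.Basic2
import Groth.Agent.Lib.AlgSpDecent.DenseOpen
import Groth.Agent.Lib.AlgSpDecent.RedInduced
import Groth.Agent.Lib.AlgSpDecent.MorApps
import Groth.Agent.Lib.AlgSpDecent.ZeroDim
import Groth.Agent.Lib.RedSep.Basic
import Groth.Agent.Lib.AlgSpace.Chart
import Mathlib.AlgebraicGeometry.ZariskisMainTheorem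

/-!
# Immersions of dense opens into relative affine spaces
-/

universe u

open CategoryTheory CategoryTheory.Limits AlgebraicGeometry Topology TopologicalSpace Opposite AlgSp
open Groth.Agent.AlgSpace Groth.Agent.AlgSpDecent

set_option backward.isDefEq.respectTransparency false
set_option backward.isDefEq.respectTransparency.types false
set_option linter.style.haveILetI false
set_option maxHeartbeats 1600000

namespace Groth.Agent.AffImm14

/-- An affine étale chart covering the image of a quasi-compact scheme. -/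
theorem exists_affine_chart_covering {S : Scheme.{u}} {F : Sp S} (hF : IsAlgSpace F) {U : Over S}
    [CompactSpace U.left] (f : (yon S).obj U ⟶ F) :
    ∃ (V : Over S) (p : (yon S).obj V ⟶ F), IsAffine V.left ∧ RepWith @Etale p ∧
      ∀ u, Points.ofPt f u ∈ Set.range (Points.ofPt p) := by
  obtain ⟨V₀, a, he, hs⟩ := hF.atlas
  obtain ⟨t, ht⟩ := isCompact_univ.elim_finite_subcover
    (fun O : V₀.left.affineOpens => Points.ofPt f ⁻¹' (Points.ofPt a '' (O.1 : Set ↥V₀.left)))
    (fun O => (isOpenMap_ofPt a he _ O.1.isOpen).preimage (Points.continuous_ofPt f)) (fun u _ => by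
      obtain ⟨v, hv⟩ := surjective_ofPt hs (Points.ofPt f u)
      obtain ⟨_, ⟨O, hO, rfl⟩, hvO, -⟩ := V₀.left.isBasis_affineOpens.exists_subset_of_mem_open
        (Set.mem_univ v) isOpen_univ
      exact Set.mem_iUnion.2 ⟨⟨O, hO⟩, v, hvO, hv⟩)
  let W : V₀.left.Opens := ⨆ O ∈ t, O.1
  have hW : IsCompact (W : Set ↥V₀.left) := by
    simp only [W, TopologicalSpace.Opens.coe_iSup]
    exact t.isCompact_biUnion fun O _ => O.2.isCompact
  have : CompactSpace ↥W.toScheme := isCompact_iff_compactSpace.1 hW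
  obtain ⟨Y, q, hqs, hqe, hY⟩ := W.toScheme.exists_hom_isAffine_of_isZariskiLocalAtSource @Etale
  let m : Over.mk (q ≫ W.ι ≫ V₀.hom) ⟶ V₀ := Over.homMk (q ≫ W.ι) (Category.assoc _ _ _)
  have : Etale q := hqe
  refine ⟨_, (yon S).map m ≫ a, hY, repWith_comp ((repWith_yon_map_iff _ m).2
    (inferInstanceAs (Etale (q ≫ W.ι)))) he, fun u => ?_⟩
  obtain ⟨O, hO, v, hv, hvu⟩ := Set.mem_iUnion₂.1 (ht (Set.mem_univ u))
  obtain ⟨y, hy⟩ := hqs.surj ⟨v, by
    simp only [W, TopologicalSpace.Opens.mem_iSup]; exact ⟨O, hO, hv⟩⟩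
  refine ⟨y, (ofPt_map_comp _ _ _).trans (Eq.trans (congrArg (Points.ofPt a) ?_) hvu)⟩
  exact congrArg W.ι hy

/-- An immersion into a relative affine space from immersions of the graphs on affine charts. -/
theorem exists_immersion_affineSpace (S : Scheme.{u}) [QuasiSeparatedSpace S]
    (X : AlgSp.Space S) (hqs : IsQuasiSeparatedSp X.obj)
    (U : Over S) (hU : IsAffine U.left) (f : (yon S).obj U ⟶ X.obj) (hf : LocP @LocallyOfFiniteType f)
    (hloc : ∀ (V : Over S) (p : (yon S).obj V ⟶ X.obj), IsAffine V.left → RepWith @Etale p →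
      ∀ (W : Over S) (w₁ : W ⟶ V) (w₂ : W ⟶ U), IsPullback ((yon S).map w₁) ((yon S).map w₂) p f →
        IsImmersion (prod.lift w₁ w₂).left) :
    ∃ (n : ℕ) (i : (yon S).obj U ⟶ X.obj ⨯ (yon S).obj (Over.mk (𝔸(ULift.{u} (Fin n); S) ↘ S))),
      i ≫ prod.fst = f ∧ RepWith @IsImmersion i := by
  have hXa := X.property
  have := hU
  obtain ⟨V, p, hV, hpe, hcov⟩ := exists_affine_chart_covering hXa f
  have := hV
  have sq := hpe.1.isPullback' f
  let W := hpe.1.pullback f
  let w₁ : W ⟶ V := hpe.1.fst' f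
  let w₂ : W ⟶ U := hpe.1.snd f
  replace sq : IsPullback ((yon S).map w₁) ((yon S).map w₂) p f := sq
  -- `W` in the product
  have : IsImmersion (prod.lift w₁ w₂).left := hloc V p hV hpe W w₁ w₂ sq
  have : QuasiCompact (prod.lift w₁ w₂).left := prop_lift_of_repWith_diag hqs sq
  have : QuasiCompact U.hom := inferInstance
  have : QuasiCompact (prod.fst : V ⨯ U ⟶ V).left :=
    MorphismProperty.of_isPullback (P := @QuasiCompact) (isPullback_fst_left V U).flip inferInstance
  have : CompactSpace ↥(V ⨯ U).left := QuasiCompact.compactSpace_of_compactSpace (prod.fst : V ⨯ U ⟶ V).left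
  have : CompactSpace ↥W.left := QuasiCompact.compactSpace_of_compactSpace (prod.lift w₁ w₂).left
  have : LocallyOfFiniteType w₁.left := by
    have h := locP_of_isPullback (IsAlgSpace.yon_obj U) hXa (IsAlgSpace.yon_obj V) sq.flip hf
    exact h (𝟙 _) (𝟙 _) w₁ (repWith_id _ W) (repWith_id _ V) (by simp)
  have : IsImmersion (pullback.lift w₁.left w₂.left (specULiftZIsTerminal.hom_ext _ _) :
      W.left ⟶ pullback (specULiftZIsTerminal.from V.left) (specULiftZIsTerminal.from U.left)) := by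
    have e : pullback.lift w₁.left w₂.left (specULiftZIsTerminal.hom_ext _ _) =
        ((prod.lift w₁ w₂).left ≫ (isPullback_fst_left V U).isoPullback.hom) ≫
          pullback.mapDesc V.hom U.hom (specULiftZIsTerminal.from S) ≫
            (pullback.congrHom (specULiftZIsTerminal.hom_ext (V.hom ≫ specULiftZIsTerminal.from S) (specULiftZIsTerminal.from V.left)) (specULiftZIsTerminal.hom_ext (U.hom ≫ specULiftZIsTerminal.from S) (specULiftZIsTerminal.from U.left))).hom := by
      apply pullback.hom_ext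
      · simp [pullback.mapDesc, lift_left_fst]
      · simp [pullback.mapDesc, lift_left_snd]
    rw [e]; infer_instance
  obtain ⟨n, v, hψ⟩ := AffImm14.exists_generators_immersion w₁.left w₂.left
  let A : Over S := Over.mk (𝔸(ULift.{u} (Fin n); S) ↘ S)
  let e : U ⟶ A := Over.homMk (AffineSpace.homOfVector U.hom fun i => v i.down)
    (AffineSpace.homOfVector_over _ _)
  let i : (yon S).obj U ⟶ X.obj ⨯ (yon S).obj A := prod.lift f ((yon S).map e)
  refine ⟨n, i, prod.lift_fst _ _, ?_⟩
  -- the chart of the product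
  let w' : W ⟶ V ⨯ A := prod.lift w₁ (w₂ ≫ e)
  let q : (yon S).obj (V ⨯ A) ⟶ X.obj ⨯ (yon S).obj A := prodComparison (yon S) V A ≫ prod.map p (𝟙 _)
  have hbot : IsPullback ((yon S).map (prod.fst : V ⨯ A ⟶ V)) q p prod.fst := by
    refine (isPullback_prod_map_left p ((yon S).obj A)).of_iso (asIso (prodComparison (yon S) V A)).symm
      (Iso.refl _) (Iso.refl _) (Iso.refl _) ?_ ?_ (by simp) (by simp)
    · simp
    · simp [q]
  have hqe : RepWith @Etale q := repWith_of_isPullback hbot hpe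
  have hwq : IsPullback ((yon S).map w') ((yon S).map w₂) q i := by
    refine IsPullback.of_right (h₁₂ := (yon S).map (prod.fst : V ⨯ A ⟶ V)) (h₂₂ := prod.fst) (v₁₃ := p) ?_ ?_ hbot
    · rw [← Functor.map_comp, prod.lift_fst, prod.lift_fst]
      exact sq
    · apply Limits.prod.hom_ext
      · simp only [q, i, w', Category.assoc, prod.map_fst, prodComparison_fst_assoc, prod.lift_fst,
          ← Functor.map_comp_assoc]
        exact sq.w
      · simp only [q, i, w', Category.assoc, prod.map_snd, Category.comp_id, prodComparison_snd, prod.lift_snd,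
          ← Functor.map_comp]
  -- restriction to the image of the chart
  let O : Set (Points (X.obj ⨯ (yon S).obj A)) := Set.range (Points.ofPt q)
  have hO : IsOpen O := (isOpenMap_ofPt q hqe).isOpen_range
  obtain ⟨q₀, hq₀⟩ := exists_lift_openSub (W := O) q (fun x => ⟨x, rfl⟩)
  obtain ⟨i₀, hi₀⟩ := exists_lift_openSub (W := O) i (fun x => by
    obtain ⟨y, hy⟩ := hcov x
    obtain ⟨z, -, hz⟩ := exists_point_lift hbot (Points.ofScheme V y) (Points.map i (Points.ofScheme U x))
      (by rw [← Points.map_comp, show i ≫ prod.fst = f from prod.lift_fst _ _, ← Points.ofPt_eq_map_ofScheme,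
        ← Points.ofPt_eq_map_ofScheme]; exact hy)
    obtain ⟨z', hz'⟩ : ∃ z', Points.ofScheme (V ⨯ A) z' = z := ⟨_, Points.ofScheme_toScheme _ z⟩
    exact ⟨z', by rw [Points.ofPt_eq_map_ofScheme q, hz', hz, ← Points.ofPt_eq_map_ofScheme]⟩)
  have hι := repWith_openSubι hO
  have sq₀ : IsPullback ((yon S).map w') ((yon S).map w₂) q₀ i₀ := by
    have hsq : IsPullback ((yon S).map w') ((yon S).map w₂) (q₀ ≫ openSubι O) (i₀ ≫ openSubι O) := by
      rw [hq₀, hi₀]; exact hwq
    exact IsPullback.of_isLimit' ⟨(cancel_mono (openSubι O)).1 (by simpa only [Category.assoc] using hsq.w)⟩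
      (PullbackCone.IsLimit.mk _ (fun c => hsq.lift c.fst c.snd (by rw [reassoc_of% c.condition]))
        (fun c => hsq.lift_fst _ _ _) (fun c => hsq.lift_snd _ _ _)
        (fun c m h₁ h₂ => hsq.hom_ext (h₁.trans (hsq.lift_fst _ _ _).symm)
          (h₂.trans (hsq.lift_snd _ _ _).symm)))
  have hq₀e : RepWith @Etale q₀ := repWith_of_isPullback (isPullback_of_mono q₀ (openSubι O)) (hq₀.symm ▸ hqe)
  have hq₀s : RepWith @Surjective q₀ := repWith_surjective_of_ofPt hq₀e.1 fun y => by
    obtain ⟨x, hx⟩ : Points.map (openSubι O) y ∈ O := (range_openSubι O).subset ⟨y, rfl⟩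
    refine ⟨x, injective_map_of_openImmersion hι ?_⟩
    rw [Points.map_ofPt, hq₀, hx]
  have hw' : IsImmersion w'.left := by
    have sqA : IsPullback (𝔸(ULift.{u} (Fin n); V.left) ↘ V.left) (AffineSpace.map _ V.hom) V.hom A.hom :=
      (AffineSpace.isPullback_map V.hom).flip
    have ew : AffineSpace.homOfVector (n := ULift.{u} (Fin n)) w₁.left (fun i => w₂.left.appTop (v i.down)) ≫
        (sqA.isoIsPullback _ _ (isPullback_fst_left V A)).hom = w'.left := by
      apply (isPullback_fst_left V A).hom_ext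
      · refine (Category.assoc _ _ _).trans ((congrArg (_ ≫ ·) (sqA.isoIsPullback_hom_fst _ _ (isPullback_fst_left V A))).trans ?_)
        rw [AffineSpace.homOfVector_over, lift_left_fst]
      · refine (Category.assoc _ _ _).trans ((congrArg (_ ≫ ·) (sqA.isoIsPullback_hom_snd _ _ (isPullback_fst_left V A))).trans ?_)
        rw [lift_left_snd, Over.comp_left]
        apply AffineSpace.hom_ext
        · rw [Category.assoc, AffineSpace.map_over, AffineSpace.homOfVector_over_assoc, Category.assoc]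
          show w₁.left ≫ V.hom = w₂.left ≫ (AffineSpace.homOfVector U.hom _ ≫ _)
          rw [AffineSpace.homOfVector_over, Over.w, Over.w]
        · intro j
          rw [← AffImm14.appTop_comp_apply, AffineSpace.map_appTop_coord, AffineSpace.homOfVector_appTop_coord,
            ← AffImm14.appTop_comp_apply]
          exact congrArg w₂.left.appTop (AffineSpace.homOfVector_appTop_coord (n := ULift.{u} (Fin n)) U.hom (fun i => v i.down) j).symm
    rw [← ew]; infer_instance
  rw [← hi₀]
  exact repWith_comp (repWith_immersion_of_etale_cover hq₀e hq₀s sq₀.flip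
    ((repWith_yon_map_iff _ w').2 hw')) (repWith_mono (fun _ _ g (hg : IsOpenImmersion g) =>
      (inferInstance : IsImmersion g)) hι)

/-- A monomorphism which becomes an immersion after a surjection is an immersion. -/
theorem isImmersion_of_surjective_comp {W₁ W P : Scheme.{u}} (k : W₁ ⟶ W) [Surjective k] (j : W ⟶ P)
    [Mono j] [LocallyOfFiniteType j] [QuasiCompact j] [IsImmersion (k ≫ j)] : IsImmersion j := by
  let Ω := (k ≫ j).coborderRange
  have hr : Set.range j ⊆ Set.range Ω.ι := by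
    rintro _ ⟨w, rfl⟩
    obtain ⟨z, rfl⟩ := k.surjective w
    rw [Scheme.Opens.range_ι, ← Scheme.Hom.comp_apply]
    exact subset_coborder (Set.mem_range_self z)
  let j' : W ⟶ Ω.toScheme := IsOpenImmersion.lift Ω.ι j hr
  have hj' : j' ≫ Ω.ι = j := IsOpenImmersion.lift_fac _ _ _
  have hk : k ≫ j' = (k ≫ j).liftCoborder := by
    rw [← cancel_mono Ω.ι, Category.assoc, hj', Scheme.Hom.liftCoborder_ι]
  haveI : Mono j' := by
    haveI : Mono (j' ≫ Ω.ι) := by rw [hj']; infer_instance
    exact mono_of_mono j' Ω.ι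
  haveI : LocallyOfFiniteType j' := by
    haveI : LocallyOfFiniteType (j' ≫ Ω.ι) := by rw [hj']; infer_instance
    exact locallyOfFiniteType_of_comp j' Ω.ι
  haveI : QuasiCompact j' := by
    haveI : QuasiCompact (j' ≫ Ω.ι) := by rw [hj']; infer_instance
    exact QuasiCompact.of_comp j' Ω.ι
  haveI : UniversallyClosed (k ≫ j') := by rw [hk]; infer_instance
  haveI : UniversallyClosed j' := UniversallyClosed.of_comp_surjective k j'
  haveI : IsProper j' := {}
  haveI : IsClosedImmersion j' := (IsClosedImmersion.iff_isProper_and_mono _).2 ⟨inferInstance, inferInstance⟩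
  rw [← hj']
  infer_instance

variable {S : Scheme.{u}}

/-- An open subset of the source which maps, after reduction, through an immersed affine scheme. -/
def Good {X : Sp S} {U : Over S} (f : (yon S).obj U ⟶ X) (G : U.left.Opens) : Prop :=
  ∃ (O : Over S) (_ : IsAffine O.left) (m : (yon S).obj O ⟶ X) (_ : RepWith @IsImmersion m)
    (U₁ : Over S) (r : U₁ ⟶ U) (_ : IsImmersion r.left) (l : U₁ ⟶ O),
    Set.range r.left = (G : Set U.left) ∧ (yon S).map r ≫ f = (yon S).map l ≫ m

/-- The graph of a map is an immersion when the source is covered by good opens. -/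
theorem isImmersion_graph [QuasiSeparatedSpace S] {X : Space S} (hqs : IsQuasiSeparatedSp X.obj)
    {U : Over S} {f : (yon S).obj U ⟶ X.obj} (hgood : ∀ u : U.left, ∃ G, u ∈ G ∧ Good f G)
    {V : Over S} {p : (yon S).obj V ⟶ X.obj} (hp : RepWith @Etale p) {W : Over S} {w₁ : W ⟶ V}
    {w₂ : W ⟶ U} (sq : IsPullback ((yon S).map w₁) ((yon S).map w₂) p f) :
    IsImmersion (prod.lift w₁ w₂).left := by
  haveI : Mono (prod.lift w₁ w₂).left := prop_lift_of_repWith_diag (repWith_diag_mono X.property.diag) sq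
  haveI : QuasiCompact (prod.lift w₁ w₂).left := prop_lift_of_repWith_diag hqs sq
  haveI : LocallyOfFiniteType (prod.lift w₁ w₂).left :=
    prop_lift_of_repWith_diag (repWith_diag_lft X.property) sq
  choose G hG O hO m hm U₁ r hr l hrG hrl using hgood
  refine (IsZariskiLocalAtTarget.iff_of_iSup_eq_top (P := @IsImmersion)
    (fun u => (prod.snd : V ⨯ U ⟶ U).left ⁻¹ᵁ G u) ?_).2 fun u => ?_
  · exact top_le_iff.1 fun z _ =>
      Opens.mem_iSup.2 ⟨(prod.snd : V ⨯ U ⟶ U).left z, hG _⟩
  let VO := (hm u).1.pullback p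
  let vι : VO ⟶ V := (hm u).1.snd p
  obtain ⟨vO, hvO⟩ := (yon S).map_surjective ((hm u).1.fst p)
  haveI : IsImmersion vι.left := (hm u).2 p _ _ ((hm u).1.isPullback p)
  have sqV : IsPullback ((yon S).map vO) ((yon S).map vι) (m u) p := hvO ▸ (hm u).1.isPullback p
  have sqW₁ : IsPullback ((yon S).map (pullback.fst vO (l u)) ≫ (yon S).map vι)
      ((yon S).map (pullback.snd vO (l u))) p ((yon S).map (r u) ≫ f) := by
    rw [hrl u]
    exact ((IsPullback.of_hasPullback vO (l u)).map (yon S)).flip.paste_vert sqV |>.flip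
  let a : pullback vO (l u) ⟶ V := pullback.fst vO (l u) ≫ vι
  let b : pullback vO (l u) ⟶ U := pullback.snd vO (l u) ≫ r u
  obtain ⟨k, hk⟩ := (yon S).map_surjective (sq.lift ((yon S).map a) ((yon S).map b) (by
    simp only [a, b, Functor.map_comp, Category.assoc]
    have := sqW₁.w
    rw [Category.assoc] at this
    exact this))
  have hk₁ : k ≫ w₁ = a := (yon S).map_injective (by rw [Functor.map_comp, hk, sq.lift_fst])
  have hk₂ : k ≫ w₂ = b := (yon S).map_injective (by rw [Functor.map_comp, hk, sq.lift_snd])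
  have sqk : IsPullback k (pullback.snd vO (l u)) w₂ (r u) := by
    refine IsPullback.of_map (yon S) hk₂ ?_
    refine IsPullback.of_right (h₁₂ := (yon S).map w₁) (h₂₂ := f) (v₁₃ := p) ?_ ?_ sq
    · rw [← Functor.map_comp, hk₁, Functor.map_comp]
      exact sqW₁
    · rw [← Functor.map_comp, ← Functor.map_comp, hk₂]
  let P₀ := (prod.snd : V ⨯ U ⟶ U).left ⁻¹ᵁ G u
  have hpre : (prod.lift w₁ w₂).left ⁻¹ᵁ P₀ = w₂.left ⁻¹ᵁ G u := by
    show (prod.lift w₁ w₂).left ⁻¹ᵁ ((prod.snd : V ⨯ U ⟶ U).left ⁻¹ᵁ G u) = _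
    rw [← Scheme.Hom.comp_preimage, lift_left_snd]
  have hkr : Set.range k.left = (((prod.lift w₁ w₂).left ⁻¹ᵁ P₀ : W.left.Opens) : Set W.left) := by
    rw [hpre]
    ext w
    constructor
    · rintro ⟨z, rfl⟩
      show w₂.left (k.left z) ∈ (G u : Set U.left)
      rw [← hrG u, ← Scheme.Hom.comp_apply, ← Over.comp_left, hk₂, Over.comp_left, Scheme.Hom.comp_apply]
      exact Set.mem_range_self _
    · intro hw
      obtain ⟨z₀, hz₀⟩ : w₂.left w ∈ Set.range (r u).left := (hrG u).symm ▸ hw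
      obtain ⟨y, hy, -⟩ := Scheme.Pullback.exists_preimage_pullback (f := w₂.left) (g := (r u).left) w z₀ hz₀.symm
      refine ⟨(sqk.map (Over.forget S)).isoPullback.inv y, ?_⟩
      rw [← hy]
      exact (Scheme.Hom.comp_apply _ _ _).symm.trans
        (congrArg (fun q : pullback w₂.left (r u).left ⟶ W.left => q y)
          (sqk.map (Over.forget S)).isoPullback_inv_fst)
  have hkj : IsImmersion (k.left ≫ (prod.lift w₁ w₂).left) := by
    haveI := hO u
    haveI := hr u
    let j₁ : (pullback vO (l u)).left ⟶ pullback VO.hom (U₁ u).hom :=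
      ((IsPullback.of_hasPullback vO (l u)).map (Over.forget S)).isoPullback.hom ≫
        pullback.mapDesc vO.left (l u).left (O u).hom ≫
        (pullback.congrHom (Over.w vO) (Over.w (l u))).hom
    have e : k.left ≫ (prod.lift w₁ w₂).left = j₁ ≫
        pullback.map VO.hom (U₁ u).hom V.hom U.hom vι.left (r u).left (𝟙 S)
          (by rw [Category.comp_id, Over.w]) (by rw [Category.comp_id, Over.w]) ≫
        (isPullback_fst_left V U).isoPullback.inv := by
      apply (isPullback_fst_left V U).hom_ext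
      · rw [Category.assoc, lift_left_fst, ← Over.comp_left, hk₁]
        simp only [j₁, a, pullback.mapDesc, pullback.map, pullback.congrHom_hom, Over.comp_left, Category.assoc, IsPullback.isoPullback_inv_fst, pullback.lift_fst, Category.comp_id]
        erw [pullback.lift_fst_assoc, pullback.lift_fst_assoc]
        exact ((reassoc_of% ((IsPullback.of_hasPullback vO (l u)).map (Over.forget S)).isoPullback_hom_fst) _).symm
      · rw [Category.assoc, lift_left_snd, ← Over.comp_left, hk₂]
        simp only [j₁, b, pullback.mapDesc, pullback.map, pullback.congrHom_hom, Over.comp_left, Category.assoc, IsPullback.isoPullback_inv_snd, pullback.lift_snd, Category.comp_id]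
        erw [pullback.lift_snd_assoc, pullback.lift_snd_assoc]
        exact ((reassoc_of% ((IsPullback.of_hasPullback vO (l u)).map (Over.forget S)).isoPullback_hom_snd) _).symm
    have : IsImmersion (pullback.map VO.hom (U₁ u).hom V.hom U.hom vι.left (r u).left (𝟙 S)
        (by rw [Category.comp_id, Over.w]) (by rw [Category.comp_id, Over.w])) :=
      MorphismProperty.pullbackMap (P := @IsImmersion) inferInstance inferInstance
        (Over.w vι).symm (Over.w (r u)).symm
    rw [e]
    infer_instance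
  let k' : (pullback vO (l u)).left ⟶ ((prod.lift w₁ w₂).left ⁻¹ᵁ P₀).toScheme :=
    IsOpenImmersion.lift ((prod.lift w₁ w₂).left ⁻¹ᵁ P₀).ι k.left (by rw [hkr, Scheme.Opens.range_ι])
  have hk' : k' ≫ ((prod.lift w₁ w₂).left ⁻¹ᵁ P₀).ι = k.left := IsOpenImmersion.lift_fac _ _ _
  haveI : Surjective k' := ⟨fun y => by
    obtain ⟨z, hz⟩ : y.1 ∈ Set.range k.left := hkr.symm ▸ y.2
    refine ⟨z, ((prod.lift w₁ w₂).left ⁻¹ᵁ P₀).ι.isOpenEmbedding.injective ?_⟩
    rw [← Scheme.Hom.comp_apply, hk']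
    exact hz⟩
  haveI : Mono ((prod.lift w₁ w₂).left ∣_ P₀) :=
    (isPullback_morphismRestrict (prod.lift w₁ w₂).left P₀).flip.mono_snd_of_mono
  haveI : LocallyOfFiniteType ((prod.lift w₁ w₂).left ∣_ P₀) :=
    IsZariskiLocalAtTarget.restrict (P := @LocallyOfFiniteType) ‹_› P₀
  haveI : QuasiCompact ((prod.lift w₁ w₂).left ∣_ P₀) :=
    IsZariskiLocalAtTarget.restrict (P := @QuasiCompact) ‹_› P₀
  haveI : IsImmersion ((k' ≫ ((prod.lift w₁ w₂).left ∣_ P₀)) ≫ P₀.ι) := by
    rw [Category.assoc, morphismRestrict_ι, ← Category.assoc, hk']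
    exact hkj
  haveI : IsImmersion (k' ≫ ((prod.lift w₁ w₂).left ∣_ P₀)) := IsImmersion.of_comp _ P₀.ι
  exact isImmersion_of_surjective_comp k' ((prod.lift w₁ w₂).left ∣_ P₀)

/-- Good opens are stable under passing to smaller opens. -/
theorem Good.restrict {X : Sp S} {Y : Over S} {g : (yon S).obj Y ⟶ X} {G : Y.left.Opens} (h : Good g G)
    {U : Over S} (j : U ⟶ Y) [IsOpenImmersion j.left] :
    Good ((yon S).map j ≫ g) (j.left ⁻¹ᵁ G) := by
  obtain ⟨O, hO, m, hm, U₁, r, hr, l, hrG, hrl⟩ := h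
  haveI := hr
  have sq := (IsPullback.of_hasPullback r j).map (Over.forget S)
  haveI : IsImmersion (pullback.snd r j).left := MorphismProperty.of_isPullback (P := @IsImmersion) sq hr
  refine ⟨O, hO, m, hm, pullback r j, pullback.snd r j, inferInstance, pullback.fst r j ≫ l, ?_, ?_⟩
  · ext x
    constructor
    · rintro ⟨z, rfl⟩
      show j.left ((pullback.snd r j).left z) ∈ (G : Set Y.left)
      rw [← hrG, ← Scheme.Hom.comp_apply, ← Over.comp_left, ← pullback.condition, Over.comp_left,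
        Scheme.Hom.comp_apply]
      exact Set.mem_range_self _
    · intro hx
      obtain ⟨z₀, hz₀⟩ : j.left x ∈ Set.range r.left := hrG.symm ▸ hx
      obtain ⟨y, -, hy⟩ := Scheme.Pullback.exists_preimage_pullback (f := r.left) (g := j.left) z₀ x hz₀
      refine ⟨sq.isoPullback.inv y, ?_⟩
      rw [← hy]
      exact (Scheme.Hom.comp_apply _ _ _).symm.trans
        (congrArg (fun q : pullback r.left j.left ⟶ U.left => q y) sq.isoPullback_inv_snd)
  · rw [← Category.assoc, ← Functor.map_comp, ← pullback.condition, Functor.map_comp, Category.assoc, hrl,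
      Functor.map_comp, Category.assoc]

/-- A nonempty open of a Noetherian space contains a nonempty irreducible open. -/
theorem exists_irreducible_open {α : Type*} [TopologicalSpace α] [NoetherianSpace α] {N : Set α}
    (hN : IsOpen N) (hne : N.Nonempty) : ∃ M, M ⊆ N ∧ IsOpen M ∧ IsIrreducible M := by
  obtain ⟨x, hx⟩ := hne
  let C := irreducibleComponent x
  have hC : C ∈ irreducibleComponents α := irreducibleComponent_mem_irreducibleComponents x
  let others : Set α := ⋃₀ (irreducibleComponents α \ {C})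
  have hoc : IsClosed others := by
    rw [show others = ⋃ D ∈ irreducibleComponents α \ {C}, D from Set.sUnion_eq_biUnion]
    exact (NoetherianSpace.finite_irreducibleComponents.subset Set.sdiff_subset).isClosed_biUnion
      fun D hD => isClosed_of_mem_irreducibleComponents D hD.1
  have hsub : N ∩ othersᶜ ⊆ C := fun y hy => by
    by_contra h
    exact hy.2 ⟨irreducibleComponent y, ⟨irreducibleComponent_mem_irreducibleComponents y,
      fun e => h (e ▸ mem_irreducibleComponent)⟩, mem_irreducibleComponent⟩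
  refine ⟨N ∩ othersᶜ, Set.inter_subset_left, hN.inter hoc.isOpen_compl, ?_, ?_⟩
  · have hnc : ¬ C ⊆ others := fun h => by
      obtain ⟨D, hD, hCD⟩ := isIrreducible_iff_sUnion_isClosed.1 hC.1
        (NoetherianSpace.finite_irreducibleComponents.subset Set.sdiff_subset).toFinset
        (fun D hD => isClosed_of_mem_irreducibleComponents D ((Set.Finite.mem_toFinset _).1 hD).1)
        (by simpa [others] using h)
      have hD' := (Set.Finite.mem_toFinset _).1 hD
      exact hD'.2 ((hC.eq_of_subset hD'.1.1 hCD).symm)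
    obtain ⟨y, hy⟩ := Set.not_subset.1 hnc
    obtain ⟨z, -, hz⟩ := hC.1.2 N othersᶜ hN hoc.isOpen_compl ⟨x, mem_irreducibleComponent, hx⟩ ⟨y, hy.1, hy.2⟩
    exact ⟨z, hz⟩
  · exact (hC.1.2.open_subset (hN.inter hoc.isOpen_compl) hsub)

/-- Good opens are dense. -/
theorem exists_good {X : Space S} (hX : IsDecent X.obj) {Y : Over S} [NoetherianSpace Y.left]
    (g : (yon S).obj Y ⟶ X.obj) {N : Y.left.Opens} (hN : (N : Set Y.left).Nonempty) :
    ∃ G ≤ N, (G : Set Y.left).Nonempty ∧ Good g G := by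
  obtain ⟨M, hMN, hMo, hMi⟩ := exists_irreducible_open N.isOpen hN
  let Cl : Closeds Y.left := ⟨closure M, isClosed_closure⟩
  let I := Scheme.IdealSheafData.vanishingIdeal Cl
  haveI : IsReduced I.subscheme := RedSepLib.isReduced_vanishingIdeal_subscheme Cl
  let Y₁ : Over S := Over.mk (I.subschemeι ≫ Y.hom)
  let ι₁ : Y₁ ⟶ Y := Over.homMk I.subschemeι rfl
  have hι₁ : Set.range ι₁.left = closure M := by
    show Set.range I.subschemeι = _
    rw [Scheme.IdealSheafData.range_subschemeι, Scheme.IdealSheafData.coe_support_vanishingIdeal]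
    rfl
  haveI : IsClosedImmersion ι₁.left := inferInstanceAs (IsClosedImmersion I.subschemeι)
  let T : Set (Points X.obj) := closure (Points.ofPt g '' M)
  have hTi : IsIrreducible T :=
    (hMi.image _ (Points.continuous_ofPt g).continuousOn).closure
  obtain ⟨Z, i, hi, hTr, hred⟩ := RedInduced.exists_isRedInduced X T isClosed_closure
  obtain ⟨Z₀, j₀, hj₀, hZ₀, hd⟩ := exists_dense_of_isDecent Z
    (isDecent_source (isDecentMor_of_representable hi.1) hX)
  obtain ⟨T₀, ⟨e₀⟩⟩ := exists_yon_iso_of_isRepresentable hZ₀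
  -- the reduced closure maps through `Z`
  let g₁ := (yon S).map ι₁ ≫ g
  haveI : IsReduced Y₁.left := inferInstanceAs (IsReduced I.subscheme)
  obtain ⟨q, hq⟩ : ∃ q : (yon S).obj Y₁ ⟶ Z.obj, q ≫ i.hom = g₁ := by
    have sq := hi.1.isPullback g₁
    haveI : IsClosedImmersion (hi.1.snd g₁).left := hi.2 g₁ _ _ sq
    haveI : Surjective (hi.1.snd g₁).left := ⟨fun y => by
      have hy : Points.ofPt g₁ y ∈ T := by
        rw [ofPt_map_comp]
        have hy' : ι₁.left y ∈ closure M := hι₁ ▸ Set.mem_range_self y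
        exact image_closure_subset_closure_image (Points.continuous_ofPt g) ⟨_, hy', rfl⟩
      rw [← hTr] at hy
      obtain ⟨z, hz⟩ := hy
      obtain ⟨v, -, hv⟩ := exists_pt_of_isPullback sq (x := z) (t := y) hz
      exact ⟨v, hv⟩⟩
    haveI := isIso_of_isClosedImmersion_of_surjective (hi.1.snd g₁).left
    haveI : IsIso ((Over.forget S).map (hi.1.snd g₁)) := ‹_›
    haveI : IsIso (hi.1.snd g₁) := isIso_of_reflects_iso _ (Over.forget S)
    exact ⟨(yon S).map (inv (hi.1.snd g₁)) ≫ hi.1.fst g₁, by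
      rw [Category.assoc, sq.w, ← Category.assoc, ← Functor.map_comp, IsIso.inv_hom_id,
        (yon S).map_id, Category.id_comp]⟩
  have himm : RepWith @IsImmersion i.hom :=
    repWith_mono (fun _ _ q (hq : IsClosedImmersion q) => (inferInstance : IsImmersion q)) hi
  have he := (isEmbedding_map_of_immersion X.property himm).1
  -- the image of `M` meets every nonempty open of `|Z|`
  obtain ⟨x₀, hx₀⟩ : ∃ x, x ∈ M := hMi.1
  obtain ⟨z₀, hz₀⟩ : Points.ofPt g x₀ ∈ Set.range (Points.map i.hom) :=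
    hTr.symm ▸ subset_closure ⟨x₀, hx₀, rfl⟩
  haveI : Nonempty (Points Z.obj) := ⟨z₀⟩
  have hj₀o : IsOpen (Set.range (Points.map j₀.hom)) := AlgSpace.isOpen_range_map_of_openImmersion hj₀
  obtain ⟨o, ho, hoe⟩ := he.isOpen_iff.1 hj₀o
  obtain ⟨z₁, hz₁⟩ := hd.nonempty
  obtain ⟨_, ⟨x₁, hx₁, rfl⟩, hx₁o⟩ : ((Points.ofPt g '' M) ∩ o).Nonempty := by
    have h1 : Points.map i.hom z₁ ∈ closure (Points.ofPt g '' M) := by
      show _ ∈ T
      rw [← hTr]; exact Set.mem_range_self z₁
    obtain ⟨y, hy, hy'⟩ := mem_closure_iff.1 h1 o ho (by rw [← Set.mem_preimage, hoe]; exact hz₁)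
    exact ⟨y, hy', hy⟩
  obtain ⟨y₁, hy₁⟩ : x₁ ∈ Set.range ι₁.left := hι₁.symm ▸ subset_closure hx₁
  obtain ⟨t₁, ht₁⟩ : Points.ofPt q y₁ ∈ Set.range (Points.map j₀.hom) := by
    rw [← hoe, Set.mem_preimage, Points.map_ofPt, hq, ofPt_map_comp, hy₁]
    exact hx₁o
  obtain ⟨t, rfl⟩ : ∃ t, Points.ofPt e₀.hom t = t₁ := by
    obtain ⟨y, rfl⟩ := (bijective_map_iso e₀.hom).2 t₁
    obtain ⟨t, rfl⟩ := (Points.schemeEquiv T₀).surjective y
    exact ⟨t, Points.ofPt_eq_map_ofScheme _ t⟩
  obtain ⟨A, hA, htA, -⟩ := exists_isAffineOpen_mem_and_subset (X := T₀.left) (x := t) (U := ⊤) trivial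
  let O : Over S := Over.mk (A.ι ≫ T₀.hom)
  let oA : O ⟶ T₀ := Over.homMk A.ι rfl
  let m₀ : (yon S).obj O ⟶ Z.obj := (yon S).map oA ≫ e₀.hom ≫ j₀.hom
  have hm₀ : RepWith @IsOpenImmersion m₀ :=
    repWith_comp ((repWith_yon_map_iff _ oA).2 (inferInstanceAs (IsOpenImmersion A.ι)))
      ((repWith_respectsIso_left e₀.hom).2 hj₀)
  let m : (yon S).obj O ⟶ X.obj := m₀ ≫ i.hom
  have hm : RepWith @IsImmersion m :=
    repWith_comp (repWith_mono (fun _ _ q (hq : IsOpenImmersion q) => (inferInstance : IsImmersion q)) hm₀) himm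
  -- the open of `Y₁`
  have sqq := hm₀.1.isPullback q
  haveI : IsOpenImmersion (hm₀.1.snd q).left := hm₀.2 q _ _ sqq
  obtain ⟨l, hl⟩ := (yon S).map_surjective (hm₀.1.fst q)
  have hy₁' : y₁ ∈ Set.range (hm₀.1.snd q).left := by
    obtain ⟨v, -, hv⟩ := exists_pt_of_isPullback sqq (x := Points.ofScheme O (⟨t, htA⟩ : A)) (t := y₁) (by
      rw [← Points.ofPt_eq_map_ofScheme, ← ht₁, ofPt_map_comp, Points.map_ofPt]
      rfl)
    exact ⟨v, hv⟩
  -- restrict to `M`
  let Q : Y₁.left.Opens := (hm₀.1.snd q).left.opensRange ⊓ ι₁.left ⁻¹ᵁ ⟨M, hMo⟩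
  let GM : Y.left.Opens := ⟨ι₁.left '' (Q : Set Y₁.left), by
    obtain ⟨o', ho', hoe'⟩ := ι₁.left.isEmbedding.isOpen_iff.1 Q.isOpen
    have : ι₁.left '' (Q : Set Y₁.left) = o' ∩ M := by
      ext x
      constructor
      · rintro ⟨y, hy, rfl⟩
        exact ⟨by rw [← Set.mem_preimage, hoe']; exact hy, hy.2⟩
      · rintro ⟨hxo, hxM⟩
        obtain ⟨y, rfl⟩ : x ∈ Set.range ι₁.left := hι₁.symm ▸ subset_closure hxM
        exact ⟨y, hoe' ▸ hxo, rfl⟩
    rw [this]
    exact ho'.inter hMo⟩
  refine ⟨GM, ?_, ⟨x₁, y₁, ⟨hy₁', show ι₁.left y₁ ∈ M by rw [hy₁]; exact hx₁⟩, hy₁⟩, ?_⟩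
  · rintro _ ⟨y, hy, rfl⟩
    exact hMN hy.2
  let U₁ : Over S := Over.mk (Q.ι ≫ Y₁.hom)
  let oQ : U₁ ⟶ Y₁ := Over.homMk Q.ι rfl
  let lQ : Q.toScheme ⟶ (hm₀.1.pullback q).left :=
    IsOpenImmersion.lift (hm₀.1.snd q).left Q.ι (by
      rw [Scheme.Opens.range_ι]; exact fun y hy => hy.1)
  have hlQ : lQ ≫ (hm₀.1.snd q).left = Q.ι := IsOpenImmersion.lift_fac _ _ _
  let lQ' : U₁ ⟶ hm₀.1.pullback q := Over.homMk lQ (by
    rw [← Over.w (hm₀.1.snd q), reassoc_of% hlQ]; rfl)
  have hlQ' : lQ' ≫ hm₀.1.snd q = oQ := Over.OverMorphism.ext hlQ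
  refine ⟨O, hA, m, hm, U₁, oQ ≫ ι₁, inferInstanceAs (IsImmersion (Q.ι ≫ ι₁.left)), lQ' ≫ l, ?_, ?_⟩
  · rw [Over.comp_left, Scheme.Hom.comp_base, TopCat.coe_comp, Set.range_comp]
    exact congrArg _ Q.range_ι
  · calc (yon S).map (oQ ≫ ι₁) ≫ g = (yon S).map oQ ≫ g₁ := by rw [Functor.map_comp, Category.assoc]
      _ = (yon S).map lQ' ≫ ((yon S).map (hm₀.1.snd q) ≫ q) ≫ i.hom := by
        rw [← hlQ', Functor.map_comp, Category.assoc, Category.assoc, hq]
      _ = (yon S).map (lQ' ≫ l) ≫ m := by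
        rw [← sqq.w, ← hl, Functor.map_comp]
        simp only [m, Category.assoc]

end Groth.Agent.AffImm14
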